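import Mathlib
import Cfsg.Agent.H665.DefZero
import Cfsg.Agent.Lib.PGroupCoprimeAction
set_option linter.all false

/-!
# Groups in which the centralizers of nontrivial `p`-elements have odd order

Let `p` be odd and let the centralizer of every nonidentity `p`-element of `G` have odd order.

* `exists_sylow_inverted` : an involution inverting a nonidentity `p`-element inverts (every element
  of) some Sylow `p`-subgroup of `G`.
* `isConj_of_inverts` : involutions inverting nonidentity `p`-elements are conjugate.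
* `exists_inverted_of_no_defectZero` : without irreducible characters of `p`-defect zero every
  involution inverts a nonidentity `p`-element.
* `sylow_comm_of_no_defectZero`, `isConj_of_no_defectZero` : then Sylow `p`-subgroups are abelian and
  there is only one class of involutions.
-/

set_option autoImplicit false
set_option linter.dupNamespace false

namespace Cfsg.Agent.H665.OddCent

open Cfsg
open scoped Pointwise

variable {G : Type*} [Group G]

/-- Centralizers of nonidentity `p`-elements have odd order. -/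
def OddCent (p : ℕ) (G : Type*) [Group G] : Prop :=
  ∀ g : G, g ≠ 1 → (∃ k : ℕ, orderOf g = p ^ k) →
    Odd (Nat.card (Subgroup.centralizer ({g} : Set G)))

theorem eq_of_mem_zpowers_invol {t b : G} (ht : t * t = 1) (hb : b ∈ Subgroup.zpowers t) :
    b = 1 ∨ b = t := by
  obtain ⟨n, rfl⟩ := hb
  have h2 : ∀ m : ℤ, t ^ (2 * m) = 1 := fun m => by
    rw [zpow_mul]
    have : t ^ (2 : ℤ) = 1 := by
      rw [show (2 : ℤ) = ((2 : ℕ) : ℤ) from rfl, zpow_natCast, pow_two, ht]
    rw [this, one_zpow]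
  rcases Int.even_or_odd' n with ⟨m, rfl | rfl⟩
  · left; exact h2 m
  · right
    show t ^ (2 * m + 1) = t
    rw [zpow_add, h2, one_mul, zpow_one]

theorem isPGroup_two_zpowers {t : G} (ht : t * t = 1) : IsPGroup 2 (Subgroup.zpowers t) := by
  rintro ⟨b, hb⟩
  refine ⟨1, ?_⟩
  rcases eq_of_mem_zpowers_invol ht hb with rfl | rfl
  · exact Subtype.ext (by simp)
  · exact Subtype.ext (by simp [pow_two, ht])

theorem not_commute_invol {p : ℕ} [Finite G] (hC : OddCent p G) {t x : G} (ht : t * t = 1)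
    (ht1 : t ≠ 1) (hx : x ≠ 1) (hxp : ∃ k : ℕ, orderOf x = p ^ k) : ¬ Commute t x := by
  intro h
  have h1 : t ∈ Subgroup.centralizer ({x} : Set G) :=
    Subgroup.mem_centralizer_singleton_iff.2 h
  have h2 : orderOf t = 2 := orderOf_eq_prime (by rw [pow_two, ht]) ht1
  have h3 : 2 ∣ Nat.card (Subgroup.centralizer ({x} : Set G)) := by
    rw [← h2, ← Subgroup.orderOf_mk t h1]
    exact orderOf_dvd_natCard _
  have h4 := hC x hx hxp
  rw [← Nat.not_even_iff_odd] at h4
  exact h4 (even_iff_two_dvd.2 h3)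

/-- An involution normalizing a `p`-subgroup inverts it. -/
theorem inverts_of_normalizes {p : ℕ} [Fact p.Prime] [Finite G] (hC : OddCent p G) {t : G} (ht : t * t = 1)
    (ht1 : t ≠ 1) (S : Subgroup G) (hS : IsPGroup p S) (hn : ∀ x ∈ S, t * x * t⁻¹ ∈ S) :
    ∀ x ∈ S, t * x * t⁻¹ = x⁻¹ := by
  let φ : S →* S :=
    { toFun := fun x => ⟨t * x * t⁻¹, hn x x.2⟩
      map_one' := Subtype.ext (by simp)
      map_mul' := fun x y => Subtype.ext (by simp [mul_assoc]) }
  have hfpf : MonoidHom.FixedPointFree φ := by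
    intro x hx
    by_contra hne
    have h1 : (x : G) ≠ 1 := fun h => hne (Subtype.ext h)
    obtain ⟨k, hk⟩ := IsPGroup.iff_orderOf.1 hS x
    refine not_commute_invol hC ht ht1 h1 ⟨k, by rw [← hk, Subgroup.orderOf_coe]⟩ ?_
    have h2 : t * x * t⁻¹ = (x : G) := congrArg Subtype.val hx
    exact mul_inv_eq_iff_eq_mul.1 h2
  have hinv : Function.Involutive φ := by
    intro x
    apply Subtype.ext
    show t * (t * x * t⁻¹) * t⁻¹ = x
    have h3 : t⁻¹ = t := inv_eq_of_mul_eq_one_left ht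
    rw [h3]
    calc t * (t * x * t) * t = (t * t) * x * (t * t) := by group
      _ = x := by rw [ht]; group
  intro x hx
  have h := congrFun (hfpf.coe_eq_inv_of_involutive hinv) ⟨x, hx⟩
  exact congrArg Subtype.val h

/-- The local step. -/
theorem exists_sylow_centralizer {p : ℕ} [hp : Fact p.Prime] [Finite G] (hC : OddCent p G)
    {t u : G} (ht : t * t = 1) (ht1 : t ≠ 1) (hu : u ≠ 1) (hup : ∃ k : ℕ, orderOf u = p ^ k)
    (htu : t * u * t⁻¹ = u⁻¹) :
    ∃ T : Sylow p (Subgroup.centralizer ({u} : Set G)),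
      u ∈ (T : Subgroup (Subgroup.centralizer ({u} : Set G))).map
        (Subgroup.centralizer ({u} : Set G)).subtype ∧
      ∀ x ∈ (T : Subgroup (Subgroup.centralizer ({u} : Set G))).map
        (Subgroup.centralizer ({u} : Set G)).subtype, t * x * t⁻¹ = x⁻¹ := by
  have htinv : t⁻¹ = t := inv_eq_of_mul_eq_one_left ht
  have hA : IsPGroup 2 (Subgroup.zpowers t) := isPGroup_two_zpowers ht
  have hH : ¬ 2 ∣ Nat.card (Subgroup.centralizer ({u} : Set G)) := by
    have := hC u hu hup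
    rw [← Nat.not_even_iff_odd, even_iff_two_dvd] at this
    exact this
  have hnorm : ∀ x ∈ Subgroup.centralizer ({u} : Set G),
      t * x * t⁻¹ ∈ Subgroup.centralizer ({u} : Set G) := by
    intro x hx
    rw [Subgroup.mem_centralizer_singleton_iff] at hx ⊢
    have hx' : Commute x u := hx
    have h1 : Commute x u⁻¹ := hx'.inv_right
    have h2 : t * u⁻¹ * t⁻¹ = u := by rw [← htu, htinv]; calc
        t * (t * u * t) * t = (t * t) * u * (t * t) := by group
        _ = u := by rw [ht]; group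
    show t * x * t⁻¹ * u = u * (t * x * t⁻¹)
    calc t * x * t⁻¹ * u = t * x * t⁻¹ * (t * u⁻¹ * t⁻¹) := by rw [h2]
      _ = t * (x * u⁻¹) * t⁻¹ := by group
      _ = t * (u⁻¹ * x) * t⁻¹ := by rw [h1.eq]
      _ = (t * u⁻¹ * t⁻¹) * (t * x * t⁻¹) := by group
      _ = u * (t * x * t⁻¹) := by rw [h2]
  have hAH : ∀ b ∈ Subgroup.zpowers t, ∀ x ∈ Subgroup.centralizer ({u} : Set G),
      b * x * b⁻¹ ∈ Subgroup.centralizer ({u} : Set G) := by
    intro b hb x hx
    rcases eq_of_mem_zpowers_invol ht hb with rfl | rfl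
    · simpa using hx
    · exact hnorm x hx
  have hRH : Subgroup.zpowers u ≤ Subgroup.centralizer ({u} : Set G) := by
    rw [Subgroup.zpowers_le, Subgroup.mem_centralizer_singleton_iff]
  have hR : IsPGroup p (Subgroup.zpowers u) := by
    obtain ⟨k, hk⟩ := hup
    exact IsPGroup.of_card (n := k) (by rw [Nat.card_zpowers, hk])
  have hAR : ∀ b ∈ Subgroup.zpowers t, ∀ x ∈ Subgroup.zpowers u,
      b * x * b⁻¹ ∈ Subgroup.zpowers u := by
    intro b hb x hx
    rcases eq_of_mem_zpowers_invol ht hb with rfl | rfl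
    · simpa using hx
    · obtain ⟨n, rfl⟩ := hx
      refine ⟨-n, ?_⟩
      show u ^ (-n) = b * u ^ n * b⁻¹
      rw [← conj_zpow, htu, inv_zpow, zpow_neg]
  obtain ⟨S, ⟨T, hT⟩, hST, hRS⟩ :=
    Cfsg.Agent.Lib.PGroupCoprimeAction.exists_invariant_sylow_ge hA hH hAH hRH hR hAR
  refine ⟨T, ?_, ?_⟩
  · rw [hT]; exact hRS (Subgroup.mem_zpowers u)
  · rw [hT]
    refine inverts_of_normalizes hC ht ht1 S ?_ (fun x hx => hST t (Subgroup.mem_zpowers t) x hx)
    rw [← hT]
    exact T.isPGroup'.map _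

/-- An involution inverting a nonidentity `p`-element inverts a Sylow `p`-subgroup of `G`. -/
theorem exists_sylow_inverted {p : ℕ} [hp : Fact p.Prime] [Finite G] (hC : OddCent p G)
    {t u : G} (ht : t * t = 1) (ht1 : t ≠ 1) (hu : u ≠ 1) (hup : ∃ k : ℕ, orderOf u = p ^ k)
    (htu : t * u * t⁻¹ = u⁻¹) :
    ∃ P : Sylow p G, ∀ x ∈ (P : Subgroup G), t * x * t⁻¹ = x⁻¹ := by
  obtain ⟨T, huT, hT⟩ := exists_sylow_centralizer hC ht ht1 hu hup htu
  set S := (T : Subgroup (Subgroup.centralizer ({u} : Set G))).map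
        (Subgroup.centralizer ({u} : Set G)).subtype with hS
  have hSp : IsPGroup p S := T.isPGroup'.map _
  obtain ⟨Q, hQ⟩ := hSp.exists_le_sylow
  have hQnt : Nontrivial (Q : Subgroup G) := by
    refine ⟨⟨⟨u, hQ huT⟩, 1, fun h => hu (congrArg Subtype.val h)⟩⟩
  have : Nontrivial (Subgroup.center (Q : Subgroup G)) := Q.isPGroup'.center_nontrivial
  obtain ⟨z, hz⟩ := exists_ne (1 : Subgroup.center (Q : Subgroup G))
  have hzc : ∀ q ∈ (Q : Subgroup G), Commute q ((z : (Q : Subgroup G)) : G) := by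
    intro q hq
    have := (Subgroup.mem_center_iff.1 z.2) ⟨q, hq⟩
    exact congrArg Subtype.val this
  have hz1 : ((z : (Q : Subgroup G)) : G) ≠ 1 := by
    intro h
    exact hz (Subtype.ext (Subtype.ext h))
  obtain ⟨j, hj⟩ := IsPGroup.iff_orderOf.1 Q.isPGroup' (z : (Q : Subgroup G))
  have hzp : orderOf ((z : (Q : Subgroup G)) : G) = p ^ j := by
    rw [← hj, Subgroup.orderOf_coe]
  set z' : G := ((z : (Q : Subgroup G)) : G) with hz'
  -- `z` lies in `S`
  have hzC : z' ∈ Subgroup.centralizer ({u} : Set G) :=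
    Subgroup.mem_centralizer_singleton_iff.2 (hzc u (hQ huT)).symm
  have hzT : (⟨z', hzC⟩ : Subgroup.centralizer ({u} : Set G)) ∈
      (T : Subgroup (Subgroup.centralizer ({u} : Set G))) := by
    have h1 : IsPGroup p (Subgroup.zpowers (⟨z', hzC⟩ : Subgroup.centralizer ({u} : Set G))) :=
      IsPGroup.of_card (n := j) (by rw [Nat.card_zpowers, Subgroup.orderOf_mk, hzp])
    have h2 : (⟨z', hzC⟩ : Subgroup.centralizer ({u} : Set G)) ∈
        Subgroup.zpowers (⟨z', hzC⟩ : Subgroup.centralizer ({u} : Set G)) ⊓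
        Subgroup.normalizer (T : Set (Subgroup.centralizer ({u} : Set G))) := by
      refine ⟨Subgroup.mem_zpowers _, ?_⟩
      have : (⟨z', hzC⟩ : Subgroup.centralizer ({u} : Set G)) ∈ Subgroup.centralizer
          ((T : Subgroup (Subgroup.centralizer ({u} : Set G))) :
          Set (Subgroup.centralizer ({u} : Set G))) := by
        rw [Subgroup.mem_centralizer_iff]
        intro y hy
        apply Subtype.ext
        exact hzc y (hQ ⟨y, hy, rfl⟩)
      exact Subgroup.centralizer_le_normalizer _ this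
    rw [h1.inf_normalizer_sylow T] at h2
    exact h2.2
  have hzS : z' ∈ S := ⟨⟨z', hzC⟩, hzT, rfl⟩
  have htz : t * z' * t⁻¹ = z'⁻¹ := hT z' hzS
  obtain ⟨T', -, hT'⟩ := exists_sylow_centralizer hC ht ht1 hz1 ⟨j, hzp⟩ htz
  have hcard : Nat.card ((T' : Subgroup (Subgroup.centralizer ({z'} : Set G))).map
        (Subgroup.centralizer ({z'} : Set G)).subtype) = p ^ (Nat.card G).factorization p := by
    rw [Subgroup.card_map_of_injective (Subgroup.subtype_injective _), T'.card_eq_multiplicity]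
    congr 1
    refine le_antisymm ((Nat.factorization_le_iff_dvd Nat.card_pos.ne' Nat.card_pos.ne').2
      (Subgroup.card_subgroup_dvd_card _) p) ?_
    refine (hp.out.pow_dvd_iff_le_factorization Nat.card_pos.ne').1 ?_
    rw [← Q.card_eq_multiplicity]
    refine Subgroup.card_dvd_of_le ?_
    intro q hq
    exact Subgroup.mem_centralizer_singleton_iff.2 (hzc q hq)
  exact ⟨Sylow.ofCard _ hcard, hT'⟩

/-- Two involutions whose product has odd order are conjugate. -/
theorem isConj_of_odd [Finite G] {a b : G} (ha : a * a = 1) (hb : b * b = 1)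
    (hab : Odd (orderOf (a * b))) : IsConj a b := by
  obtain ⟨k, hk⟩ := hab
  have ha' : a⁻¹ = a := inv_eq_of_mul_eq_one_left ha
  have hb' : b⁻¹ = b := inv_eq_of_mul_eq_one_left hb
  refine isConj_iff.2 ⟨(a * b) ^ k, ?_⟩
  have h1 : a * (a * b) * a⁻¹ = (a * b)⁻¹ := by
    rw [mul_inv_rev, ha', hb', ← mul_assoc, ha, one_mul]
  have h2 : a * ((a * b) ^ k)⁻¹ * a⁻¹ = (a * b) ^ k := by
    rw [← inv_pow, ← conj_pow, show a * (a * b)⁻¹ * a⁻¹ = (a * (a * b) * a⁻¹)⁻¹ by group, h1, inv_inv]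
  have h3 : (a * b) ^ (2 * k + 1) = 1 := by rw [← hk]; exact pow_orderOf_eq_one _
  have h4 : a * ((a * b) ^ k)⁻¹ = (a * b) ^ k * a := by
    rw [← mul_inv_eq_iff_eq_mul]; exact h2
  rw [mul_assoc, h4, ← mul_assoc, ← pow_add, ← two_mul]
  have h5 : (a * b) ^ (2 * k) = (a * b)⁻¹ := by
    rw [eq_inv_iff_mul_eq_one, ← pow_succ]; exact h3
  rw [h5, mul_inv_rev, ha', hb', mul_assoc, ha, mul_one]

/-- Involutions which invert nonidentity `p`-elements are conjugate. -/
theorem isConj_of_inverts {p : ℕ} [hp : Fact p.Prime] [Finite G] (hC : OddCent p G)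
    {t u t' u' : G} (ht : t * t = 1) (ht1 : t ≠ 1) (hu : u ≠ 1) (hup : ∃ k : ℕ, orderOf u = p ^ k)
    (htu : t * u * t⁻¹ = u⁻¹) (ht' : t' * t' = 1) (ht1' : t' ≠ 1) (hu' : u' ≠ 1)
    (hup' : ∃ k : ℕ, orderOf u' = p ^ k) (htu' : t' * u' * t'⁻¹ = u'⁻¹) : IsConj t t' := by
  obtain ⟨P, hP⟩ := exists_sylow_inverted hC ht ht1 hu hup htu
  obtain ⟨P', hP'⟩ := exists_sylow_inverted hC ht' ht1' hu' hup' htu'
  obtain ⟨g, hg⟩ := MulAction.exists_smul_eq G P P'
  have hcj : ∀ x ∈ (P' : Subgroup G), (g * t * g⁻¹) * x * (g * t * g⁻¹)⁻¹ = x⁻¹ := by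
    intro x hx
    have h1 : g⁻¹ * x * g ∈ (P : Subgroup G) := by
      rw [← hg] at hx
      have h2 : x ∈ MulAut.conj g • (P : Subgroup G) := hx
      rw [Subgroup.mem_pointwise_smul_iff_inv_smul_mem] at h2
      simpa [MulAut.smul_def] using h2
    have h3 := hP _ h1
    calc (g * t * g⁻¹) * x * (g * t * g⁻¹)⁻¹ = g * (t * (g⁻¹ * x * g) * t⁻¹) * g⁻¹ := by group
      _ = x⁻¹ := by rw [h3]; group
  -- a nonidentity element of `P'`
  have hpG : p ∣ Nat.card G := by
    obtain ⟨k, hk⟩ := hup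
    have hk0 : k ≠ 0 := by
      rintro rfl
      exact hu (orderOf_eq_one_iff.1 (by simpa using hk))
    exact (dvd_pow_self p hk0).trans (hk ▸ orderOf_dvd_natCard u)
  have hne : (P' : Subgroup G) ≠ ⊥ := P'.ne_bot_of_dvd_card hpG
  obtain ⟨x', hx'⟩ := Subgroup.ne_bot_iff_exists_ne_one.1 hne
  obtain ⟨j, hj⟩ := IsPGroup.iff_orderOf.1 P'.isPGroup' x'
  obtain ⟨x, hx⟩ := x'
  have hx1 : x ≠ 1 := fun h => hx' (Subtype.ext h)
  have hxp : orderOf x = p ^ j := by rw [← hj, Subgroup.orderOf_mk]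
  set s : G := g * t * g⁻¹ with hs
  have hss : s * s = 1 := by
    rw [hs]
    calc g * t * g⁻¹ * (g * t * g⁻¹) = g * (t * t) * g⁻¹ := by group
      _ = 1 := by rw [ht]; group
  have hcomm : (s * t') ∈ Subgroup.centralizer ({x} : Set G) := by
    rw [Subgroup.mem_centralizer_singleton_iff]
    have h1 := hP' x hx
    have h2 := hcj x⁻¹ ((P' : Subgroup G).inv_mem hx)
    rw [inv_inv] at h2
    have h3 : s * t' * x * (s * t')⁻¹ = x := by
      calc s * t' * x * (s * t')⁻¹ = s * (t' * x * t'⁻¹) * s⁻¹ := by group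
        _ = x := by rw [h1, h2]
    exact mul_inv_eq_iff_eq_mul.1 h3
  have hodd : Odd (orderOf (s * t')) := by
    have h1 := hC x hx1 ⟨j, hxp⟩
    refine Odd.of_dvd_nat h1 ?_
    rw [← Subgroup.orderOf_mk _ hcomm]
    exact orderOf_dvd_natCard _
  exact (isConj_iff.2 ⟨g, rfl⟩ : IsConj t s).trans (isConj_of_odd hss ht' hodd)

/-- Without irreducible characters of `p`-defect zero every involution inverts a nonidentity
`p`-element. -/
theorem exists_inverted_of_no_defectZero {p : ℕ} [hp : Fact p.Prime] [Finite G]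
    (hC : OddCent p G)
    (hno : ¬ ∃ χ : IrrCharacter G,
      (charDegree (χ : G → ℂ)).factorization p = (Nat.card G).factorization p)
    {t : G} (ht : t * t = 1) (ht1 : t ≠ 1) :
    ∃ u : G, u ≠ 1 ∧ (∃ k : ℕ, orderOf u = p ^ k) ∧ t * u * t⁻¹ = u⁻¹ := by
  have hs : ¬ p ∣ Nat.card (Subgroup.centralizer ({t} : Set G)) := by
    intro h
    obtain ⟨y, hy⟩ := exists_prime_orderOf_dvd_card' p h
    have hy1 : (y : G) ≠ 1 := by
      intro h1
      have : y = 1 := Subtype.ext h1
      rw [this, orderOf_one] at hy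
      exact hp.out.one_lt.ne hy
    refine not_commute_invol hC ht ht1 hy1 ⟨1, by rw [Subgroup.orderOf_coe, hy, pow_one]⟩ ?_
    exact (Subgroup.mem_centralizer_singleton_iff.1 y.2).symm
  rcases Cfsg.Agent.H665.DefZero.defectZero_or p t hs with h | ⟨g, h, hg, hh, hne, k, hk⟩
  · exact absurd h hno
  · obtain ⟨c, rfl⟩ := isConj_iff.1 hg
    obtain ⟨d, rfl⟩ := isConj_iff.1 hh
    have hinv : ∀ e : G, (e * t * e⁻¹)⁻¹ = e * t * e⁻¹ := by
      intro e
      apply inv_eq_of_mul_eq_one_left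
      calc e * t * e⁻¹ * (e * t * e⁻¹) = e * (t * t) * e⁻¹ := by group
        _ = 1 := by rw [ht]; group
    set u : G := c * t * c⁻¹ * (d * t * d⁻¹)⁻¹ with hu
    refine ⟨c⁻¹ * u * c, ?_, ⟨k, ?_⟩, ?_⟩
    · intro h1
      apply hne
      calc u = c * (c⁻¹ * u * c) * c⁻¹ := by group
        _ = 1 := by rw [h1]; group
    · rw [← hk]
      have := orderOf_injective (MulAut.conj c⁻¹).toMonoidHom (MulAut.conj c⁻¹).injective u
      simpa [MulAut.conj_apply] using this
    · have h1 : (c * t * c⁻¹) * u * (c * t * c⁻¹)⁻¹ = u⁻¹ := by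
        have e1 := hinv c
        have e2 := hinv d
        rw [e2] at hu
        generalize hA : c * t * c⁻¹ = a at *
        generalize hB : d * t * d⁻¹ = b at *
        have e3 : a * a = 1 := by nth_rewrite 1 [← e1]; exact inv_mul_cancel a
        rw [hu, mul_inv_rev, e1, e2]
        calc a * (a * b) * a = (a * a) * b * a := by group
          _ = b * a := by rw [e3, one_mul]
      calc t * (c⁻¹ * u * c) * t⁻¹ = c⁻¹ * ((c * t * c⁻¹) * u * (c * t * c⁻¹)⁻¹) * c := by group
        _ = (c⁻¹ * u * c)⁻¹ := by rw [h1]; group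

/-- Without irreducible characters of `p`-defect zero all involutions are conjugate. -/
theorem isConj_of_no_defectZero {p : ℕ} [hp : Fact p.Prime] [Finite G] (hC : OddCent p G)
    (hno : ¬ ∃ χ : IrrCharacter G,
      (charDegree (χ : G → ℂ)).factorization p = (Nat.card G).factorization p)
    {s t : G} (hs : s * s = 1) (hs1 : s ≠ 1) (ht : t * t = 1) (ht1 : t ≠ 1) : IsConj s t := by
  obtain ⟨u, hu, hup, hsu⟩ := exists_inverted_of_no_defectZero hC hno hs hs1
  obtain ⟨u', hu', hup', htu⟩ := exists_inverted_of_no_defectZero hC hno ht ht1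
  exact isConj_of_inverts hC hs hs1 hu hup hsu ht ht1 hu' hup' htu

/-- Without irreducible characters of `p`-defect zero, every Sylow `p`-subgroup is inverted by some
involution. -/
theorem exists_invol_inverts_sylow {p : ℕ} [hp : Fact p.Prime] [Finite G] (hC : OddCent p G)
    (h2 : 2 ∣ Nat.card G)
    (hno : ¬ ∃ χ : IrrCharacter G,
      (charDegree (χ : G → ℂ)).factorization p = (Nat.card G).factorization p) (P : Sylow p G) :
    ∃ t : G, t * t = 1 ∧ t ≠ 1 ∧ ∀ x ∈ (P : Subgroup G), t * x * t⁻¹ = x⁻¹ := by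
  have : Fact (Nat.Prime 2) := ⟨Nat.prime_two⟩
  obtain ⟨t, ht⟩ := exists_prime_orderOf_dvd_card' 2 h2
  have htt : t * t = 1 := by rw [← pow_two, ← ht, pow_orderOf_eq_one]
  have ht1 : t ≠ 1 := by
    rintro rfl
    rw [orderOf_one] at ht
    exact absurd ht (by norm_num)
  obtain ⟨u, hu, hup, htu⟩ := exists_inverted_of_no_defectZero hC hno htt ht1
  obtain ⟨P', hP'⟩ := exists_sylow_inverted hC htt ht1 hu hup htu
  obtain ⟨g, hg⟩ := MulAction.exists_smul_eq G P' P
  refine ⟨g * t * g⁻¹, ?_, ?_, ?_⟩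
  · calc g * t * g⁻¹ * (g * t * g⁻¹) = g * (t * t) * g⁻¹ := by group
      _ = 1 := by rw [htt]; group
  · intro h
    apply ht1
    calc t = g⁻¹ * (g * t * g⁻¹) * g := by group
      _ = 1 := by rw [h]; group
  · intro x hx
    have h1 : g⁻¹ * x * g ∈ (P' : Subgroup G) := by
      rw [← hg] at hx
      have h2 : x ∈ MulAut.conj g • (P' : Subgroup G) := hx
      rw [Subgroup.mem_pointwise_smul_iff_inv_smul_mem] at h2
      simpa [MulAut.smul_def] using h2
    have h3 := hP' _ h1
    calc (g * t * g⁻¹) * x * (g * t * g⁻¹)⁻¹ = g * (t * (g⁻¹ * x * g) * t⁻¹) * g⁻¹ := by group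
      _ = x⁻¹ := by rw [h3]; group

theorem comm_of_inverts {P : Subgroup G} {t : G} (h : ∀ x ∈ P, t * x * t⁻¹ = x⁻¹) {x y : G}
    (hx : x ∈ P) (hy : y ∈ P) : x * y = y * x := by
  have h1 := h (x * y) (P.mul_mem hx hy)
  have h2 : t * (x * y) * t⁻¹ = (t * x * t⁻¹) * (t * y * t⁻¹) := by group
  rw [h2, h x hx, h y hy, mul_inv_rev] at h1
  have h3 : (x⁻¹ * y⁻¹)⁻¹ = (y⁻¹ * x⁻¹)⁻¹ := by rw [h1]
  simpa using h3.symm

end Cfsg.Agent.H665.OddCent
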