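import Mathlib
import Cfsg.Agent.S0145
import Cfsg.Agent.Blocks.Basic
import Cfsg.Agent.Characters.Values
set_option linter.all false

/-!
# Real elements with centralizers of odd order

`exists_even_degree` : if a nonidentity element `x` of a finite group is conjugate to its inverse and
has a centralizer of odd order, then the group has an irreducible character of even degree.
-/

set_option autoImplicit false

namespace Cfsg.Agent.H665.EvenDegree

open Cfsg Cfsg.Agent.Characters.Core Cfsg.Agent.Blocks.Basic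
open scoped ComplexConjugate

/-- `1` is not twice an algebraic integer. -/
theorem not_two_dvd_one : ¬ (2 : integralClosure ℤ ℂ) ∣ 1 := by
  rintro ⟨b, hb⟩
  have h1 : (2 : ℂ) * (b : ℂ) = 1 := by
    have := congrArg (algebraMap (integralClosure ℤ ℂ) ℂ) hb
    rw [map_mul, map_one, map_ofNat] at this
    exact this.symm
  have h2 : (b : ℂ) = ((1 / 2 : ℚ) : ℂ) := by
    push_cast
    rw [eq_div_iff (by norm_num), mul_comm]
    exact h1
  have h3 : IsIntegral ℤ ((1 / 2 : ℚ) : ℂ) := h2 ▸ b.2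
  have h4 : IsIntegral ℤ (1 / 2 : ℚ) := by
    have h5 : ((1 / 2 : ℚ) : ℂ) = algebraMap ℚ ℂ (1 / 2) := rfl
    rw [h5] at h3
    exact (isIntegral_algebraMap_iff (algebraMap ℚ ℂ).injective).1 h3
  obtain ⟨n, hn⟩ := IsIntegrallyClosed.isIntegral_iff.1 h4
  have h6 : (n : ℚ) = 1 / 2 := hn
  have h7 : ((2 * n : ℤ) : ℚ) = ((1 : ℤ) : ℚ) := by push_cast; rw [h6]; norm_num
  have h8 : 2 * n = 1 := by exact_mod_cast h7
  omega

theorem exists_even_degree {G : Type*} [Group G] [Finite G] {x : G} (hx : x ≠ 1)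
    (hreal : IsConj x x⁻¹) (hodd : Odd (Nat.card (Subgroup.centralizer ({x} : Set G)))) :
    ∃ χ : IrrCharacter G, Even (charDegree (χ : G → ℂ)) := by
  classical
  by_contra hcon
  push Not at hcon
  have := Fintype.ofFinite G
  have : Finite (IrrCharacter G) := finite_irr
  have := Fintype.ofFinite (IrrCharacter G)
  -- the values
  have hint : ∀ χ : IrrCharacter G, IsIntegral ℤ ((χ : G → ℂ) x) := by
    intro χ
    obtain ⟨n, ρ, -, h⟩ := χ.2
    rw [← h]
    exact Cfsg.Agent.Characters.Values.character_isIntegral ρ x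
  let a : IrrCharacter G → integralClosure ℤ ℂ := fun χ => ⟨(χ : G → ℂ) x, hint χ⟩
  have ha : ∀ χ, algebraMap (integralClosure ℤ ℂ) ℂ (a χ) = (χ : G → ℂ) x := fun χ => rfl
  have hinj : Function.Injective (algebraMap (integralClosure ℤ ℂ) ℂ) := Subtype.val_injective
  have hconj : ∀ χ : IrrCharacter G, conj ((χ : G → ℂ) x) = (χ : G → ℂ) x := by
    intro χ
    obtain ⟨c, hc⟩ := isConj_iff.1 hreal
    rw [← isCharacter_apply_inv (isIrr_isCharacter χ.2), ← hc]
    exact isIrr_isClassFunction χ.2 x c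
  have h1 : ∑ χ : IrrCharacter G, (charDegree (χ : G → ℂ) : integralClosure ℤ ℂ) * a χ = 0 := by
    apply hinj
    have h := Cfsg.Agent.S0145.sum_irr_mul_conj (G := G) 1 x
    rw [if_neg (fun h => hx (by
      obtain ⟨c, hc⟩ := isConj_iff.1 h
      rw [← hc]; group))] at h
    rw [map_sum, map_zero, ← h]
    refine Finset.sum_congr rfl fun χ _ => ?_
    rw [map_mul, ha, hconj, map_natCast, irr_one_eq_charDegree χ.2]
  have h2 : ∑ χ : IrrCharacter G, a χ ^ 2 =
      (Nat.card (Subgroup.centralizer ({x} : Set G)) : integralClosure ℤ ℂ) := by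
    apply hinj
    have h := Cfsg.Agent.S0145.sum_irr_mul_conj (G := G) x x
    rw [if_pos (IsConj.refl x)] at h
    rw [map_sum, map_natCast, ← h]
    refine Finset.sum_congr rfl fun χ _ => ?_
    rw [map_pow, ha, hconj, pow_two]
  -- reduce modulo two
  let I : Ideal (integralClosure ℤ ℂ) := Ideal.span {2}
  let q := Ideal.Quotient.mk I
  have h20 : q 2 = 0 := Ideal.Quotient.eq_zero_iff_mem.2 (Ideal.mem_span_singleton_self 2)
  have h10 : q 1 ≠ 0 := by
    intro h
    exact not_two_dvd_one (Ideal.mem_span_singleton.1 (Ideal.Quotient.eq_zero_iff_mem.1 h))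
  have h2' : (2 : integralClosure ℤ ℂ ⧸ I) = 0 := by rw [← h20]; rfl
  have hodd' : ∀ n : ℕ, Odd n → ((n : ℕ) : integralClosure ℤ ℂ ⧸ I) = 1 := by
    rintro n ⟨k, rfl⟩
    push_cast
    rw [h2', zero_mul, zero_add]
  have hnt : Nontrivial (integralClosure ℤ ℂ ⧸ I) := ⟨⟨q 1, 0, h10⟩⟩
  have hch : CharP (integralClosure ℤ ℂ ⧸ I) 2 := CharTwo.of_one_ne_zero_of_two_eq_zero one_ne_zero h2'
  have e1 : ∑ χ : IrrCharacter G, q (a χ) = 0 := by
    have h := congrArg q h1
    rw [map_sum, map_zero] at h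
    rw [← h]
    refine Finset.sum_congr rfl fun χ _ => ?_
    rw [map_mul, map_natCast, hodd' _ (Nat.not_even_iff_odd.1 (hcon χ)), one_mul]
  have e2 : ∑ χ : IrrCharacter G, q (a χ) ^ 2 = 1 := by
    have h := congrArg q h2
    rw [map_sum, map_natCast, hodd' _ hodd] at h
    rw [← h]
    refine Finset.sum_congr rfl fun χ _ => ?_
    rw [map_pow]
  have e3 : (∑ χ : IrrCharacter G, q (a χ)) ^ 2 = ∑ χ : IrrCharacter G, q (a χ) ^ 2 := by
    have : Fact (Nat.Prime 2) := ⟨Nat.prime_two⟩
    exact sum_pow_char 2 _ _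
  rw [e1, e2] at e3
  exact one_ne_zero (e3.symm.trans (by ring))

end Cfsg.Agent.H665.EvenDegree
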