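import Mathlib
import Cfsg.Prelude.Def_Blocks
import Cfsg.Agent.Blocks.Basic
import Cfsg.Agent.CharDeep.PowerDegrees
import Cfsg.Agent.CharactersDeep.MackeyLinear
import Cfsg.Agent.CharactersDeep.NormalInd
import Cfsg.Agent.ClassicalGeometry.PSL2Basic
import Cfsg.Agent.ClassicalGeometry.SL2Line
import Cfsg.Agent.Prune
set_option linter.all false
prune_inst 0x7f00000000000000000000000000000000000000000000000000000000000000000000000000000000000000000000000000000000000000000000000000000000000000000000000000000000000000003fffffffffffffffffffffffffffbeffbdffffffff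
open scoped Cfsg.Agent.FastGrp

/-!
# A principal series character of `SL₂(q)`; degrees over normal subgroups

* `exists_irr_sl_two` : for a finite field `F` with `q ≥ 4` elements `SL₂(F)` has an irreducible
  character of degree `q + 1`.
* `exists_irr_psl_two` : the same for `PSL₂(F)` if `q` is even.
* `exists_over_dvd` : every degree of a normal subgroup divides a degree of the group.
-/

set_option autoImplicit false

namespace Cfsg.Agent.H665.Psl2Char

open Cfsg Cfsg.Agent.Characters.Core Cfsg.Agent.Blocks.Basic Matrix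
open Cfsg.Agent.ClassicalGeometry.SL2Line (sl_mul_apply sl_one_apply mk mk_00 mk_01 mk_10 mk_11 sl_ext)
open scoped ComplexConjugate MatrixGroups

/-- Every irreducible character degree of a normal subgroup divides one of the group. -/
theorem exists_over_dvd {G : Type*} [Group G] [Finite G] (N : Subgroup G) [N.Normal]
    (θ : IrrCharacter N) :
    ∃ χ : IrrCharacter G, charDegree (θ : N → ℂ) ∣ charDegree (χ : G → ℂ) := by
  classical
  have := Fintype.ofFinite G
  have := Fintype.ofFinite N
  obtain ⟨χ, hχ, h⟩ := Cfsg.Agent.CharDeep.PowerDegrees.exists_irr_over N θ.2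
  obtain ⟨m, hm⟩ := Cfsg.Agent.CharDeep.PowerDegrees.degree_dvd N hχ θ.2 h
  refine ⟨⟨χ, hχ⟩, m, ?_⟩
  rw [irr_one_eq_charDegree hχ, irr_one_eq_charDegree θ.2] at hm
  have : charDegree χ = m * charDegree (θ : N → ℂ) := by exact_mod_cast hm
  rw [this, mul_comm]

theorem exists_irr_of_equiv {G H : Type*} [Group G] [Group H] (e : G ≃* H) (χ : IrrCharacter H) :
    ∃ ψ : IrrCharacter G, charDegree (ψ : G → ℂ) = charDegree (χ : H → ℂ) := by
  refine ⟨⟨_, isIrr_comp e.toMonoidHom e.surjective χ.2⟩, ?_⟩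
  rw [charDegree_def, charDegree_def]
  simp

variable (F : Type*) [Field F]

/-- Entries of the inverse. -/
theorem sl_inv_entries (g : SpecialLinearGroup (Fin 2) F) :
    g⁻¹ 0 0 = g 1 1 ∧ g⁻¹ 0 1 = - g 0 1 ∧ g⁻¹ 1 0 = - g 1 0 ∧ g⁻¹ 1 1 = g 0 0 := by
  have hdet : g 0 0 * g 1 1 - g 0 1 * g 1 0 = 1 := by
    have := g.det_coe
    rwa [Matrix.det_fin_two] at this
  have h : g⁻¹ = mk (g 1 1) (- g 0 1) (- g 1 0) (g 0 0) (by linear_combination hdet) := by
    rw [inv_eq_iff_mul_eq_one]
    apply sl_ext <;> rw [sl_mul_apply, sl_one_apply] <;> simp only [mk_00, mk_01, mk_10, mk_11]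
    · simp only [if_true]; linear_combination hdet
    · simp only [Fin.isValue, zero_ne_one, if_false]; ring
    · simp only [Fin.isValue, one_ne_zero, if_false]; ring
    · simp only [if_true]; linear_combination hdet
  rw [h]
  exact ⟨mk_00 _ _ _ _ _, mk_01 _ _ _ _ _, mk_10 _ _ _ _ _, mk_11 _ _ _ _ _⟩

/-- The Borel subgroup of `SL₂(F)`. -/
def borel : Subgroup (SpecialLinearGroup (Fin 2) F) where
  carrier := {g | g 1 0 = 0}
  mul_mem' := by
    intro a b ha hb
    have ha' : a 1 0 = 0 := ha
    have hb' : b 1 0 = 0 := hb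
    show (a * b) 1 0 = 0
    rw [sl_mul_apply, ha', hb', zero_mul, mul_zero, add_zero]
  one_mem' := by
    show (1 : SpecialLinearGroup (Fin 2) F) 1 0 = 0
    rw [sl_one_apply]
    simp
  inv_mem' := by
    intro a ha
    have ha' : a 1 0 = 0 := ha
    show a⁻¹ 1 0 = 0
    rw [(sl_inv_entries F a).2.2.1, ha', neg_zero]

variable {F}

theorem mem_borel {g : SpecialLinearGroup (Fin 2) F} : g ∈ borel F ↔ g 1 0 = 0 := Iff.rfl

theorem det_borel {g : SpecialLinearGroup (Fin 2) F} (hg : g ∈ borel F) : g 0 0 * g 1 1 = 1 := by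
  have h := g.det_coe
  rw [Matrix.det_fin_two, mem_borel.1 hg, mul_zero, sub_zero] at h
  exact h

/-- The diagonal character of the Borel subgroup. -/
def diag : borel F →* Fˣ where
  toFun g := ⟨g.1 0 0, g.1 1 1, det_borel g.2, by rw [mul_comm]; exact det_borel g.2⟩
  map_one' := by
    apply Units.ext
    show (1 : SpecialLinearGroup (Fin 2) F) 0 0 = 1
    rw [sl_one_apply]
    simp
  map_mul' := by
    intro a b
    apply Units.ext
    show (a.1 * b.1) 0 0 = a.1 0 0 * b.1 0 0
    rw [sl_mul_apply, mem_borel.1 b.2, mul_zero, add_zero]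

theorem diag_val (g : borel F) : ((diag g : Fˣ) : F) = g.1 0 0 := rfl

/-- The upper triangular matrix with given diagonal and upper entries. -/
def upp (u : Fˣ) (x : F) : borel F :=
  ⟨mk (u : F) x 0 ((u⁻¹ : Fˣ) : F) (by simp), mk_10 _ _ _ _ _⟩

theorem card_borel [Fintype F] :
    Nat.card (borel F) = (Fintype.card F - 1) * Fintype.card F := by
  classical
  have h1 : Nat.card (borel F) = Nat.card (Fˣ × F) := by
    refine Nat.card_congr ⟨fun g => (diag g, g.1 0 1), fun p => upp p.1 p.2, ?_, ?_⟩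
    · intro g
      apply Subtype.ext
      have h10 := mem_borel.1 g.2
      apply sl_ext
      · rfl
      · rfl
      · exact h10.symm
      · rfl
    · rintro ⟨u, x⟩
      exact Prod.ext (Units.ext rfl) rfl
  rw [h1, Nat.card_prod, Nat.card_eq_fintype_card, Nat.card_eq_fintype_card, Fintype.card_units]

theorem index_borel [Fintype F] : (borel F).index = Fintype.card F + 1 := by
  classical
  have h1 := (borel F).card_mul_index
  rw [card_borel, Cfsg.Agent.ClassicalGeometry.PSL2Basic.card_SL2] at h1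
  have hq : 1 < Fintype.card F := Fintype.one_lt_card
  set q := Fintype.card F with hqdef
  have h2 : q * (q ^ 2 - 1) = (q - 1) * q * (q + 1) := by
    obtain ⟨m, hm⟩ : ∃ m, q = m + 1 := ⟨q - 1, by omega⟩
    rw [hm]
    have : (m + 1) ^ 2 - 1 = m * (m + 2) := by
      have : (m + 1) ^ 2 = m * (m + 2) + 1 := by ring
      omega
    rw [this, Nat.add_sub_cancel]
    ring
  rw [h2] at h1
  have h3 : 0 < (q - 1) * q := Nat.mul_pos (by omega) (by omega)
  exact Nat.eq_of_mul_eq_mul_left h3 h1

/-- A principal series character of `SL₂(q)`, `q ≥ 4`. -/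
theorem exists_irr_sl_two [Fintype F] (h4 : 4 ≤ Fintype.card F) :
    ∃ χ : IrrCharacter (SpecialLinearGroup (Fin 2) F),
      charDegree (χ : SpecialLinearGroup (Fin 2) F → ℂ) = Fintype.card F + 1 := by
  classical
  have : Fintype (SpecialLinearGroup (Fin 2) F) := Fintype.ofFinite _
  have : Fintype (borel F) := Fintype.ofFinite _
  -- an element whose square is not one
  obtain ⟨d, hd⟩ : ∃ d : Fˣ, d ^ 2 ≠ 1 := by
    by_contra hcon
    push Not at hcon
    have h1 : Fintype.card Fˣ ≤ 2 := by
      have h2 := IsCyclic.card_pow_eq_one_le (α := Fˣ) (n := 2) (by norm_num)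
      have h3 : (Finset.univ.filter fun a : Fˣ => a ^ 2 = 1) = Finset.univ := by
        rw [Finset.filter_eq_self]
        intro a _
        exact hcon a
      rw [h3, Finset.card_univ] at h2
      exact h2
    rw [Fintype.card_units] at h1
    omega
  obtain ⟨l, hl⟩ : ∃ l : Fˣ →* ℂˣ, l (d ^ 2) ≠ 1 :=
    CommGroup.exists_apply_ne_one_of_hasEnoughRootsOfUnity Fˣ ℂ hd
  have hirr : IsIrrCharacter (SpecialLinearGroup (Fin 2) F)
      (indFun (borel F) (fun t => ((l.comp diag) t : ℂ))) := by
    apply Cfsg.Agent.CharactersDeep.MackeyLinear.isIrrCharacter_indFun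
    intro x hx
    have hc : x 1 0 ≠ 0 := hx
    -- the element of the Borel subgroup fixing the line of `x e₁`
    set y : F := (((d⁻¹ : Fˣ) : F) - (d : F)) * x 0 0 / x 1 0 with hy
    set t : SpecialLinearGroup (Fin 2) F := (upp d y : SpecialLinearGroup (Fin 2) F) with ht
    have htB : t ∈ borel F := (upp d y).2
    have hdet : x 0 0 * x 1 1 - x 0 1 * x 1 0 = 1 := by
      have := x.det_coe
      rwa [Matrix.det_fin_two] at this
    obtain ⟨i00, i01, i10, i11⟩ := sl_inv_entries F x
    have t00 : t 0 0 = (d : F) := rfl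
    have t01 : t 0 1 = y := rfl
    have t10 : t 1 0 = 0 := rfl
    have t11 : t 1 1 = ((d⁻¹ : Fˣ) : F) := rfl
    have hyc : y * x 1 0 = (((d⁻¹ : Fˣ) : F) - (d : F)) * x 0 0 := by
      rw [hy]; field_simp
    have hconj00 : (x⁻¹ * t * x) 0 0 = ((d⁻¹ : Fˣ) : F) := by
      rw [sl_mul_apply, sl_mul_apply, sl_mul_apply, i00, i01, t00, t01, t10, t11]
      linear_combination x 1 1 * hyc + ((d⁻¹ : Fˣ) : F) * hdet
    have hconj10 : (x⁻¹ * t * x) 1 0 = 0 := by
      rw [sl_mul_apply, sl_mul_apply, sl_mul_apply, i10, i11, t00, t01, t10, t11]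
      linear_combination (- x 1 0) * hyc
    refine ⟨⟨t, htB⟩, mem_borel.2 hconj10, ?_⟩
    intro heq
    have h1 : diag (⟨t, htB⟩ : borel F) = d := Units.ext rfl
    have h2 : diag (⟨x⁻¹ * t * x, mem_borel.2 hconj10⟩ : borel F) = d⁻¹ := Units.ext hconj00
    rw [MonoidHom.comp_apply, MonoidHom.comp_apply, h1, h2, map_inv] at heq
    apply hl
    rw [pow_two, map_mul]
    nth_rewrite 1 [heq]
    exact inv_mul_cancel _
  refine ⟨⟨_, hirr⟩, ?_⟩
  apply charDegree_of_eq
  show indFun (borel F) (fun t => ((l.comp diag) t : ℂ)) 1 = _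
  rw [Cfsg.Agent.CharactersDeep.NormalInd.indFun_one, index_borel]
  simp

/-- A principal series character of `PSL₂(q)`, `q ≥ 4` even. -/
theorem exists_irr_psl_two [Fintype F] (h2 : (2 : F) = 0) (h4 : 4 ≤ Fintype.card F) :
    ∃ χ : IrrCharacter (ProjectiveSpecialLinearGroup (Fin 2) F),
      charDegree (χ : ProjectiveSpecialLinearGroup (Fin 2) F → ℂ) = Fintype.card F + 1 := by
  have h1 := Cfsg.Agent.ClassicalGeometry.PSL2Basic.card_center_SL2_even h2
  have hbot : Subgroup.center (SpecialLinearGroup (Fin 2) F) = ⊥ := Subgroup.card_eq_one.1 h1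
  obtain ⟨χ, hχ⟩ := exists_irr_sl_two (F := F) h4
  have hinj : Function.Injective
      (QuotientGroup.mk' (Subgroup.center (SpecialLinearGroup (Fin 2) F))) := by
    rw [← MonoidHom.ker_eq_bot_iff, QuotientGroup.ker_mk', hbot]
  obtain ⟨ψ, hψ⟩ := exists_irr_of_equiv (MulEquiv.ofBijective
    (QuotientGroup.mk' (Subgroup.center (SpecialLinearGroup (Fin 2) F)))
    ⟨hinj, QuotientGroup.mk'_surjective _⟩).symm χ
  exact ⟨ψ, hψ.trans hχ⟩

end Cfsg.Agent.H665.Psl2Char

private theorem dce_033be03a16a7 : _root_.True := by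
  try have : _root_.True := by simp only [_root_.Cfsg.Agent.ClassicalGeometry.SL2Line.mk.congr_simp]
  exact _root_.True.intro
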