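import Cfsg.Agent.H334.TI.SocleCore_m3
import Cfsg.Agent.KFacts.HS.Base
import Cfsg.Agent.HN.H0Basic
import Cfsg.Agent.SporadicA.Co0Mono
import Cfsg.Agent.FastGrp
import Cfsg.Agent.Prune
set_option linter.all false
prune_inst 0x7f00000000000000000000000000000000000000000000000000000000000000000000000000000000000000000000000000000000000000000000000000000000000000000000000000000000000000003fffffffffffffffffffffffffffbeffbdffffffff
open scoped Cfsg.Agent.FastGrp

-- part: H665/SporHS
section
/-!
# The Sylow 3- and 5-subgroups of the Higman–Sims group are not TI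

Words in the generators of `2.HS.2`.
-/

set_option autoImplicit false
set_option maxRecDepth 100000

namespace Cfsg.Agent.H665.SporHS

open Cfsg.Agent.HN Cfsg.Agent.HN.Pres Cfsg.Agent.HN.HS100 Cfsg.Agent.HN.P1408 Cfsg.Agent.HN.H0Basic
open Cfsg.Agent.KFacts.HS Cfsg.Agent.H666.TI Cfsg.Agent.H665.TIA

variable {L : Type*} [Group L] (D : Cfsg.Agent.KFacts.HS.Mod L)

end Cfsg.Agent.H665.SporHS
end

-- part: H665/SporCo
section
/-!
# The Sylow 5-subgroups of the Conway groups are not TI
-/

set_option autoImplicit false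

namespace Cfsg.Agent.H665.SporCo

open Subgroup Cfsg Cfsg.Spor Cfsg.Agent.SporadicA.Co0Mono Cfsg.Agent.H666.TI Cfsg.Agent.H665.TIA
open Cfsg.Agent.HN Cfsg.Agent.HN.H0Basic

/-- `HS → Co₀` -/
noncomputable def toCo0 : Spor.HS →* Co0 := Subgroup.inclusion (inf_le_left.trans inf_le_left)

theorem toCo0_inj : Function.Injective toCo0 := Subgroup.inclusion_injective _

/-- the sign change -/
noncomputable def s : Co0 := signCo0 ⟨qrWord 0, Submodule.subset_span (Or.inl ⟨0, rfl⟩)⟩

theorem s_smul : s • leechU' = leechU := by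
  apply Subtype.ext
  rw [s, signCo0_smul]
  funext i
  rw [signMap_apply]
  show sgn (qrWord 0 i) * vecU' i = vecU i
  revert i
  decide +kernel

theorem s_sq : s * s = 1 := signCo0_mul_self _

theorem s_smul' : s • leechU = leechU' := by
  rw [← s_smul, ← mul_smul, s_sq, one_smul]

theorem card_HS : Nat.card Spor.HS = 44352000 := Cfsg.Agent.KFacts.HS.card ⟨MulEquiv.refl _⟩

/-- conjugation by `s` takes `HS` into `Co₂` -/
theorem conj_mem (g : Spor.HS) : ((s * toCo0 g * s : Co0) : Equiv.Perm leechLattice) ∈ Spor.Co2 := by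
  refine ⟨(s * toCo0 g * s).2, ?_⟩
  show (s * toCo0 g * s) • leechU = leechU
  rw [mul_smul, mul_smul, s_smul']
  have h1 : toCo0 g • leechU' = leechU' := g.2.2
  rw [h1, s_smul]

/-- `HS → Co₂` -/
noncomputable def toCo2 : Spor.HS →* Spor.Co2 where
  toFun g := ⟨_, conj_mem g⟩
  map_one' := by
    apply Subtype.ext
    show ((s * toCo0 1 * s : Co0) : Equiv.Perm leechLattice) = 1
    rw [map_one, mul_one, s_sq]; rfl
  map_mul' g h := by
    apply Subtype.ext
    show ((s * toCo0 (g * h) * s : Co0) : Equiv.Perm leechLattice) =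
      ((s * toCo0 g * s : Co0) : Equiv.Perm leechLattice) * ((s * toCo0 h * s : Co0) : Equiv.Perm leechLattice)
    rw [← Subgroup.coe_mul, map_mul]
    congr 1
    have : s * toCo0 g * s * (s * toCo0 h * s) = s * toCo0 g * (s * s) * toCo0 h * s := by group
    rw [this, s_sq]; group

theorem toCo2_inj : Function.Injective toCo2 := by
  intro g h hgh
  have h1 : ((s * toCo0 g * s : Co0) : Equiv.Perm leechLattice) = ((s * toCo0 h * s : Co0) : Equiv.Perm leechLattice) :=
    congrArg (fun y : Spor.Co2 => (y : Equiv.Perm leechLattice)) hgh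
  have h2 : s * toCo0 g * s = s * toCo0 h * s := Subtype.ext h1
  exact toCo0_inj (mul_left_cancel (mul_right_cancel h2))

end Cfsg.Agent.H665.SporCo
end

private theorem dce_564aabdbde9d : _root_.True := by
  try have : _root_.True := by simp only [_root_.Cfsg.Agent.H665.SporCo.s.eq_1]
  exact _root_.True.intro
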